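import Mathlib.CategoryTheory.Limits.Indization.FilteredColimits
import Mathlib.CategoryTheory.Limits.Indization.IndObject
import Mathlib.CategoryTheory.Functor.KanExtension.Adjunction
import Mathlib.CategoryTheory.Limits.Presheaf
import Mathlib.CategoryTheory.Limits.Types.Colimits
import Mathlib.CategoryTheory.Limits.Types.Filtered
import Mathlib.CategoryTheory.Limits.FilteredColimitCommutesFiniteLimit

/-!
Left Kan extension to presheaves and ind-objects.
-/

set_option autoImplicit false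

universe u

open CategoryTheory CategoryTheory.Limits Opposite

namespace Groth.Agent.LanInd.Basic

variable {C : Type u} [SmallCategory C] {D : Type u} [SmallCategory D] (F : C ⥤ D)

/-- lan of a representable -/
noncomputable def lanY (X : C) : yoneda.obj (F.obj X) ≅ F.op.lan.obj (yoneda.obj X) :=
  Functor.leftKanExtensionUnique _ (yonedaMap F X) _ (F.op.lanUnit.app (yoneda.obj X))

theorem lanY_fac (X Z : C) (g : Z ⟶ X) :
    (lanY F X).hom.app (op (F.obj Z)) (F.map g) = (F.op.lanUnit.app (yoneda.obj X)).app (op Z) g :=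
  ConcreteCategory.congr_hom ((yoneda.obj (F.obj X)).descOfIsLeftKanExtension_fac_app (yonedaMap F X) _
    (F.op.lanUnit.app (yoneda.obj X)) (op Z)) g

theorem unit_y_inj [F.Faithful] (X : C) (Z : Cᵒᵖ) :
    Function.Injective ((F.op.lanUnit.app (yoneda.obj X)).app Z) := fun a b h => by
  obtain ⟨Z⟩ := Z
  rw [← lanY_fac, ← lanY_fac] at h
  exact F.map_injective ((((lanY F X).app (op (F.obj Z))).toEquiv).injective h)

theorem unit_y_bij [F.Full] [F.Faithful] (X : C) (Z : Cᵒᵖ) :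
    Function.Bijective ((F.op.lanUnit.app (yoneda.obj X)).app Z) := by
  refine ⟨unit_y_inj F X Z, fun y => ?_⟩
  obtain ⟨Z⟩ := Z
  obtain ⟨a, rfl⟩ := (((lanY F X).app (op (F.obj Z))).toEquiv).surjective y
  obtain ⟨g, rfl⟩ := F.map_surjective a
  exact ⟨g, (lanY_fac F X Z g).symm⟩

/-- the functor `G ↦ u^* u_! G` at an object -/
noncomputable abbrev evR (Z : Cᵒᵖ) : (Cᵒᵖ ⥤ Type u) ⥤ Type u :=
  (F.op.lan : (Cᵒᵖ ⥤ Type u) ⥤ (Dᵒᵖ ⥤ Type u)) ⋙ (evaluation Dᵒᵖ (Type u)).obj (op (F.obj Z.unop))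

noncomputable instance evR_preservesColimits (Z : Cᵒᵖ) : PreservesColimitsOfSize.{u, u} (evR F Z) := by
  haveI : PreservesColimitsOfSize.{u, u} (F.op.lan : (Cᵒᵖ ⥤ Type u) ⥤ (Dᵒᵖ ⥤ Type u)) :=
    (F.op.lanAdjunction (Type u)).leftAdjoint_preservesColimits
  infer_instance

theorem stages {G : Cᵒᵖ ⥤ Type u} (P : IndObjectPresentation G) (Z : Cᵒᵖ) (i : P.I)
    (a : (yoneda.obj (P.F.obj i)).obj Z) :
    (F.op.lanUnit.app G).app Z ((P.ι.app i).app Z a) =
      (evR F Z).map (P.ι.app i) ((F.op.lanUnit.app (yoneda.obj (P.F.obj i))).app Z a) :=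
  ConcreteCategory.congr_hom (NatTrans.congr_app (F.op.lanUnit.naturality (P.ι.app i)) Z) a

theorem unit_inj [F.Faithful] {G : Cᵒᵖ ⥤ Type u} (hG : IsIndObject G) (Z : Cᵒᵖ) :
    Function.Injective ((F.op.lanUnit.app G).app Z) := fun x y h => by
  obtain ⟨⟨P⟩⟩ := hG
  have hev := isColimitOfPreserves ((evaluation Cᵒᵖ (Type u)).obj Z) P.coconeIsColimit
  have hR := isColimitOfPreserves (evR F Z) P.coconeIsColimit
  obtain ⟨i, a, rfl⟩ := Types.jointly_surjective_of_isColimit hev x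
  obtain ⟨j, b, rfl⟩ := Types.jointly_surjective_of_isColimit hev y
  let k := IsFiltered.max i j
  obtain ⟨l, f, g, hl⟩ := (Types.FilteredColimit.isColimit_eq_iff _ hR).1
    ((stages F P Z i a).symm.trans (h.trans (stages F P Z j b)))
  refine (Types.FilteredColimit.isColimit_eq_iff _ hev).2 ⟨l, f, g, unit_y_inj F _ Z ?_⟩
  exact ((ConcreteCategory.congr_hom (NatTrans.congr_app (F.op.lanUnit.naturality (yoneda.map (P.F.map f))) Z) a).trans
    hl).trans (ConcreteCategory.congr_hom (NatTrans.congr_app (F.op.lanUnit.naturality (yoneda.map (P.F.map g))) Z) b).symm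

theorem unit_bij [F.Full] [F.Faithful] {G : Cᵒᵖ ⥤ Type u} (hG : IsIndObject G) (Z : Cᵒᵖ) :
    Function.Bijective ((F.op.lanUnit.app G).app Z) := by
  refine ⟨unit_inj F hG Z, fun y => ?_⟩
  obtain ⟨⟨P⟩⟩ := hG
  obtain ⟨i, a, rfl⟩ := Types.jointly_surjective_of_isColimit (isColimitOfPreserves (evR F Z) P.coconeIsColimit) y
  obtain ⟨a', rfl⟩ := (unit_y_bij F _ Z).2 a
  exact ⟨_, stages F P Z i a'⟩

theorem unit_isIso [F.Full] [F.Faithful] {G : Cᵒᵖ ⥤ Type u} (hG : IsIndObject G) :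
    IsIso ((F.op.lanAdjunction (Type u)).unit.app G) := by
  rw [Functor.lanAdjunction_unit]
  haveI : ∀ Z, IsIso ((F.op.lanUnit.app G).app Z) := fun Z => (isIso_iff_bijective _).2 (unit_bij F hG Z)
  exact NatIso.isIso_of_isIso_app _

theorem homEquiv_map (H G : Cᵒᵖ ⥤ Type u) (φ : H ⟶ G) :
    (F.op.lanAdjunction (Type u)).homEquiv H _ (F.op.lan.map φ) = φ ≫ (F.op.lanAdjunction (Type u)).unit.app G := by
  rw [Adjunction.homEquiv_unit]
  exact ((F.op.lanAdjunction (Type u)).unit.naturality φ).symm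

theorem map_injective [F.Faithful] {G : Cᵒᵖ ⥤ Type u} (hG : IsIndObject G) (H : Cᵒᵖ ⥤ Type u) :
    Function.Injective (fun φ : H ⟶ G => (F.op.lan : (Cᵒᵖ ⥤ Type u) ⥤ (Dᵒᵖ ⥤ Type u)).map φ) := fun φ ψ h => by
  have h' := congrArg ((F.op.lanAdjunction (Type u)).homEquiv H _) h
  rw [homEquiv_map, homEquiv_map, Functor.lanAdjunction_unit] at h'
  ext Z x
  exact unit_inj F hG Z (ConcreteCategory.congr_hom (NatTrans.congr_app h' Z) x)

theorem map_bijective [F.Full] [F.Faithful] {G : Cᵒᵖ ⥤ Type u} (hG : IsIndObject G) (H : Cᵒᵖ ⥤ Type u) :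
    Function.Bijective (fun φ : H ⟶ G => (F.op.lan : (Cᵒᵖ ⥤ Type u) ⥤ (Dᵒᵖ ⥤ Type u)).map φ) := by
  haveI := unit_isIso F hG
  refine ⟨map_injective F hG H, fun q => ⟨(F.op.lanAdjunction (Type u)).homEquiv H _ q ≫
    inv ((F.op.lanAdjunction (Type u)).unit.app G), ?_⟩⟩
  apply ((F.op.lanAdjunction (Type u)).homEquiv H _).injective
  rw [homEquiv_map, Category.assoc, IsIso.inv_hom_id, Category.comp_id]

theorem faithful_of (h : ∀ A B : Cᵒᵖ ⥤ Type u, IsIndObject A → IsIndObject B →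
    Function.Injective (fun φ : A ⟶ B => (F.op.lan : (Cᵒᵖ ⥤ Type u) ⥤ (Dᵒᵖ ⥤ Type u)).map φ)) : F.Faithful where
  map_injective {X Y} a b hab := by
    refine yoneda.map_injective (h _ _ (isIndObject_yoneda X) (isIndObject_yoneda Y)
      (((F.op.lanAdjunction (Type u)).homEquiv _ _).injective ?_))
    rw [homEquiv_map, homEquiv_map, Functor.lanAdjunction_unit]
    apply yonedaEquiv.injective
    rw [yonedaEquiv_comp, yonedaEquiv_comp]
    simp only [yonedaEquiv_yoneda_map]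
    rw [← lanY_fac, ← lanY_fac, hab]

theorem full_of (h : ∀ A B : Cᵒᵖ ⥤ Type u, IsIndObject A → IsIndObject B →
    Function.Surjective (fun φ : A ⟶ B => (F.op.lan : (Cᵒᵖ ⥤ Type u) ⥤ (Dᵒᵖ ⥤ Type u)).map φ)) : F.Full where
  map_surjective {X Y} a := by
    obtain ⟨φ, hφ⟩ := h _ _ (isIndObject_yoneda X) (isIndObject_yoneda Y)
      (((F.op.lanAdjunction (Type u)).homEquiv _ _).symm ((yonedaEquiv (X := X) (F := F.op ⋙ F.op.lan.obj (yoneda.obj Y))).symm ((lanY F Y).hom.app (op (F.obj X)) a)))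
    refine ⟨yoneda.preimage φ, (((lanY F Y).app (op (F.obj X))).toEquiv).injective ?_⟩
    have h2 := congrArg ((F.op.lanAdjunction (Type u)).homEquiv _ _) hφ
    rw [homEquiv_map, Equiv.apply_symm_apply, Functor.lanAdjunction_unit] at h2
    have h3 := congrArg yonedaEquiv h2
    rw [yonedaEquiv_comp, Equiv.apply_symm_apply] at h3
    refine ((lanY_fac F Y X (yoneda.preimage φ)).trans ?_).trans h3
    rw [← yonedaEquiv_yoneda_map (yoneda.preimage φ), Functor.map_preimage]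

theorem isIndObject_retract {A : Cᵒᵖ ⥤ Type u} {X : C} (i : A ⟶ yoneda.obj X) (r : yoneda.obj X ⟶ A) (h : i ≫ r = 𝟙 A) :
    IsIndObject A := by
  rw [isIndObject_iff]
  refine ⟨?_, FinallySmall.mk' (J := CostructuredArrow yoneda A) (𝟭 _)⟩
  let T : CostructuredArrow yoneda A := CostructuredArrow.mk r
  let toT : ∀ Z : CostructuredArrow yoneda A, Z ⟶ T := fun Z => CostructuredArrow.homMk (yoneda.preimage (Z.hom ≫ i))
    (show yoneda.map (yoneda.preimage (Z.hom ≫ i)) ≫ r = Z.hom by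
      rw [Functor.map_preimage, Category.assoc, h, Category.comp_id])
  haveI : Nonempty (CostructuredArrow yoneda A) := ⟨T⟩
  haveI : IsFilteredOrEmpty (CostructuredArrow yoneda A) :=
    { cocone_objs := fun P Q => ⟨T, toT P, toT Q, trivial⟩
      cocone_maps := fun P Q f g => ⟨T, toT Q, by
        ext
        apply yoneda.map_injective
        show yoneda.map (f.left ≫ yoneda.preimage (Q.hom ≫ i)) = yoneda.map (g.left ≫ yoneda.preimage (Q.hom ≫ i))
        rw [Functor.map_comp, Functor.map_comp, Functor.map_preimage, CostructuredArrow.w_assoc,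
          CostructuredArrow.w_assoc]⟩ }
  exact ⟨⟩

theorem isIso_retract {E : Type*} [Category E] {K L : E ⥤ E} (t : K ⟶ L) {A Z : E} (i : A ⟶ Z) (r : Z ⟶ A)
    (h : i ≫ r = 𝟙 A) [IsIso (t.app Z)] : IsIso (t.app A) :=
  ⟨L.map i ≫ inv (t.app Z) ≫ K.map r, by
    rw [← Category.assoc, ← t.naturality, Category.assoc, IsIso.hom_inv_id_assoc, ← K.map_comp, h, K.map_id], by
    rw [Category.assoc, Category.assoc, t.naturality, IsIso.inv_hom_id_assoc, ← L.map_comp, h, L.map_id]⟩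

theorem exists_of_retract [F.Full] [F.Faithful]
    (hr : ∀ X' : D, ∃ (X : C) (i : X' ⟶ F.obj X) (r : F.obj X ⟶ X'), i ≫ r = 𝟙 X')
    (G' : Dᵒᵖ ⥤ Type u) (hG' : IsIndObject G') :
    ∃ A : Cᵒᵖ ⥤ Type u, IsIndObject A ∧ Nonempty ((F.op.lan : (Cᵒᵖ ⥤ Type u) ⥤ (Dᵒᵖ ⥤ Type u)).obj A ≅ G') := by
  let adj := F.op.lanAdjunction (Type u)
  let R := (Functor.whiskeringLeft Cᵒᵖ Dᵒᵖ (Type u)).obj F.op
  have hy : ∀ X' : D, IsIndObject (R.obj (yoneda.obj X')) ∧ IsIso (adj.counit.app (yoneda.obj X')) := by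
    intro X'
    obtain ⟨X, i, r, hir⟩ := hr X'
    haveI := unit_isIso F (isIndObject_yoneda X)
    let e : yoneda.obj X ≅ R.obj (yoneda.obj (F.obj X)) := asIso (adj.unit.app _) ≪≫ R.mapIso (lanY F X).symm
    haveI : IsIso (adj.counit.app (F.op.lan.obj (yoneda.obj X))) :=
      IsIso.of_isIso_fac_left (adj.left_triangle_components _)
    haveI : IsIso (adj.counit.app (yoneda.obj (F.obj X))) := (NatTrans.isIso_app_iff_of_iso _ (lanY F X)).2 inferInstance
    refine ⟨isIndObject_retract (R.map (yoneda.map i) ≫ e.inv) (e.hom ≫ R.map (yoneda.map r)) ?_,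
      isIso_retract adj.counit (yoneda.map i) (yoneda.map r) ((yoneda.map_comp i r).symm.trans ((congrArg yoneda.map hir).trans (yoneda.map_id _)))⟩
    rw [Category.assoc, Iso.inv_hom_id_assoc, ← Functor.map_comp, ← Functor.map_comp, hir]
    exact (congrArg R.map (yoneda.map_id _)).trans (R.map_id _)
  obtain ⟨⟨P⟩⟩ := hG'
  haveI : PreservesColimitsOfSize.{u, u} (F.op.lan : (Cᵒᵖ ⥤ Type u) ⥤ (Dᵒᵖ ⥤ Type u)) :=
    adj.leftAdjoint_preservesColimits
  haveI : PreservesColimitsOfSize.{u, u} R := inferInstance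
  have hc := isColimitOfPreserves R P.coconeIsColimit
  have hA : IsIndObject (R.obj G') :=
    (isIndObject_colimit P.I _ fun i => (hy _).1).map ((colimit.isColimit _).coconePointUniqueUpToIso hc).hom
  have hc' := isColimitOfPreserves (R ⋙ (F.op.lan : (Cᵒᵖ ⥤ Type u) ⥤ (Dᵒᵖ ⥤ Type u))) P.coconeIsColimit
  haveI : ∀ i, IsIso (adj.counit.app ((P.F ⋙ yoneda).obj i)) := fun i => (hy _).2
  let w : (P.F ⋙ yoneda) ⋙ R ⋙ F.op.lan ≅ P.F ⋙ yoneda :=
    NatIso.ofComponents (fun i => asIso (adj.counit.app ((P.F ⋙ yoneda).obj i))) (fun f => adj.counit.naturality _)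
  let φ := IsColimit.coconePointsIsoOfNatIso hc' P.coconeIsColimit w
  exact ⟨R.obj G', hA, ⟨φ⟩⟩

theorem retract_of (h : ∀ G' : Dᵒᵖ ⥤ Type u, IsIndObject G' →
    ∃ A : Cᵒᵖ ⥤ Type u, IsIndObject A ∧ Nonempty ((F.op.lan : (Cᵒᵖ ⥤ Type u) ⥤ (Dᵒᵖ ⥤ Type u)).obj A ≅ G'))
    (X' : D) : ∃ (X : C) (i : X' ⟶ F.obj X) (r : F.obj X ⟶ X'), i ≫ r = 𝟙 X' := by
  obtain ⟨A, ⟨⟨P⟩⟩, ⟨e⟩⟩ := h _ (isIndObject_yoneda X')
  haveI : PreservesColimitsOfSize.{u, u} (F.op.lan : (Cᵒᵖ ⥤ Type u) ⥤ (Dᵒᵖ ⥤ Type u)) :=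
    (F.op.lanAdjunction (Type u)).leftAdjoint_preservesColimits
  obtain ⟨i, a, ha⟩ := Types.jointly_surjective_of_isColimit
    (isColimitOfPreserves ((F.op.lan : (Cᵒᵖ ⥤ Type u) ⥤ (Dᵒᵖ ⥤ Type u)) ⋙ (evaluation Dᵒᵖ (Type u)).obj (op X'))
      P.coconeIsColimit) (e.inv.app (op X') (𝟙 X'))
  obtain ⟨g, hg⟩ := (((lanY F (P.F.obj i)).app (op X')).toEquiv).surjective a
  subst hg
  let r' : yoneda.obj (F.obj (P.F.obj i)) ⟶ yoneda.obj X' := (lanY F _).hom ≫ F.op.lan.map (P.ι.app i) ≫ e.hom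
  refine ⟨P.F.obj i, g, yoneda.preimage r', yoneda.map_injective (yonedaEquiv.injective ?_)⟩
  rw [Functor.map_comp, Functor.map_preimage, yonedaEquiv_comp, yonedaEquiv_yoneda_map, yonedaEquiv_yoneda_map]
  show e.hom.app (op X') _ = _
  refine (congrArg (e.hom.app (op X')) ha).trans ?_
  exact (e.app (op X')).toEquiv.apply_symm_apply (𝟙 X')

end Groth.Agent.LanInd.Basic
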