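import Mathlib.CategoryTheory.Functor.KanExtension.Adjunction
import Mathlib.CategoryTheory.Comma.Over.Basic
import Mathlib.CategoryTheory.Limits.Shapes.Pullback.IsPullback.Basic
import Mathlib.CategoryTheory.Limits.Types.Colimits
import Mathlib.CategoryTheory.Limits.Types.Limits
import Mathlib.CategoryTheory.Limits.Types.Pullbacks

/-!
Left Kan extension to presheaves along functors fully faithful on slices.
-/

set_option autoImplicit false

universe u

open CategoryTheory CategoryTheory.Limits Opposite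

namespace Groth.Agent.LanInd.OverFF

variable {C : Type u} [SmallCategory C] {D : Type u} [SmallCategory D] (F : C ⥤ D)

theorem lift_over (hu : ∀ X : C, (Over.post (X := X) F).Full) {Z X X' : C} (g : F.obj Z ⟶ F.obj X) (m : X ⟶ X')
    (h' : Z ⟶ X') (e : g ≫ F.map m = F.map h') : ∃ h : Z ⟶ X, F.map h = g ∧ h ≫ m = h' := by
  haveI := hu X'
  obtain ⟨p, hp⟩ := (Over.post (X := X') F).map_surjective
    (Over.homMk g e : (Over.post F).obj (Over.mk h') ⟶ (Over.post F).obj (Over.mk m))
  exact ⟨p.left, congrArg (fun q : (Over.post F).obj (Over.mk h') ⟶ (Over.post F).obj (Over.mk m) => q.left) hp,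
    Over.w p⟩

/-- the colimit description of the left Kan extension -/
noncomputable def pw (H : Cᵒᵖ ⥤ Type u) :=
  Functor.isPointwiseLeftKanExtensionOfIsLeftKanExtension (L := F.op) (F := H) _ (F.op.lanUnit.app H)

open Classical in
/-- partial inverse of the unit -/
noncomputable def back (H : Cᵒᵖ ⥤ Type u) (Z X : C) (g : F.obj Z ⟶ F.obj X) (s : H.obj (op X)) : Option (H.obj (op Z)) :=
  if h : ∃ h : Z ⟶ X, F.map h = g then some (H.map h.choose.op s) else none

theorem back_map [F.Faithful] (H : Cᵒᵖ ⥤ Type u) {Z X : C} (h : Z ⟶ X) (s : H.obj (op X)) :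
    back F H Z X (F.map h) s = some (H.map h.op s) := by
  have he : ∃ h' : Z ⟶ X, F.map h' = F.map h := ⟨h, rfl⟩
  rw [back, dif_pos he, F.map_injective he.choose_spec]

theorem exists_phi [F.Faithful] (hu : ∀ X : C, (Over.post (X := X) F).Full) (H : Cᵒᵖ ⥤ Type u) (Z : C) :
    ∃ φ : (F.op.lan.obj H).obj (op (F.obj Z)) → Option (H.obj (op Z)),
      ∀ (X : C) (g : F.obj Z ⟶ F.obj X) (s : H.obj (op X)),
        φ ((F.op.lan.obj H).map g.op ((F.op.lanUnit.app H).app (op X) s)) = back F H Z X g s := by
  let c : Cocone (CostructuredArrow.proj F.op (op (F.obj Z)) ⋙ H) :=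
    { pt := Option (H.obj (op Z))
      ι :=
        { app := fun T => ↾(fun s => back F H Z T.left.unop T.hom.unop s)
          naturality := fun T T' m => by
            ext s
            show back F H Z T'.left.unop T'.hom.unop (H.map m.left s) = back F H Z T.left.unop T.hom.unop s
            have e : T'.hom.unop ≫ F.map m.left.unop = T.hom.unop :=
              congrArg Quiver.Hom.unop (CostructuredArrow.w m)
            by_cases hT : ∃ h : Z ⟶ T.left.unop, F.map h = T.hom.unop
            · obtain ⟨h, hh⟩ := hT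
              obtain ⟨h', hh', he'⟩ := lift_over F hu T'.hom.unop m.left.unop h (e.trans hh.symm)
              rw [← hh, ← hh', back_map, back_map, ← he', op_comp, FunctorToTypes.map_comp_apply]
              rfl
            · have hT' : ¬ ∃ h : Z ⟶ T'.left.unop, F.map h = T'.hom.unop := fun ⟨h', hh'⟩ =>
                hT ⟨h' ≫ m.left.unop, by rw [Functor.map_comp, hh', e]⟩
              rw [back, back, dif_neg hT, dif_neg hT'] } }
  refine ⟨(pw F H (op (F.obj Z))).desc c, fun X g s => ?_⟩
  exact ConcreteCategory.congr_hom ((pw F H (op (F.obj Z))).fac c (CostructuredArrow.mk (Y := op X) g.op)) s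

theorem exists_rep (H : Cᵒᵖ ⥤ Type u) (Z : C) (t : (F.op.lan.obj H).obj (op (F.obj Z))) :
    ∃ (X : C) (g : F.obj Z ⟶ F.obj X) (s : H.obj (op X)),
      (F.op.lan.obj H).map g.op ((F.op.lanUnit.app H).app (op X) s) = t := by
  obtain ⟨T, s, hs⟩ := Types.jointly_surjective_of_isColimit (pw F H (op (F.obj Z))) t
  exact ⟨T.left.unop, T.hom.unop, s, hs⟩

theorem unit_inj [F.Faithful] (hu : ∀ X : C, (Over.post (X := X) F).Full) (H : Cᵒᵖ ⥤ Type u) (Z : Cᵒᵖ) :
    Function.Injective ((F.op.lanUnit.app H).app Z) := fun a b h => by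
  obtain ⟨Z⟩ := Z
  obtain ⟨φ, hφ⟩ := exists_phi F hu H Z
  have key : ∀ a, φ ((F.op.lanUnit.app H).app (op Z) a) = some a := fun a => by
    have := hφ Z (F.map (𝟙 Z)) a
    rw [back_map] at this
    simpa using this
  exact Option.some.inj ((key a).symm.trans ((congrArg φ h).trans (key b)))

theorem main [F.Faithful] (hu : ∀ X : C, (Over.post (X := X) F).Full) :
    (F.op.lan : (Cᵒᵖ ⥤ Type u) ⥤ (Dᵒᵖ ⥤ Type u)).Faithful ∧
      (∀ H : Cᵒᵖ ⥤ Type u, Mono ((F.op.lanAdjunction (Type u)).unit.app H)) ∧
      ∀ (H K : Cᵒᵖ ⥤ Type u) (α : H ⟶ K), IsPullback ((F.op.lanAdjunction (Type u)).unit.app H) α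
        (((Functor.whiskeringLeft Cᵒᵖ Dᵒᵖ (Type u)).obj F.op).map (F.op.lan.map α))
        ((F.op.lanAdjunction (Type u)).unit.app K) := by
  rw [Functor.lanAdjunction_unit]
  refine ⟨⟨fun {H K} a b hab => ?_⟩, fun H => ?_, fun H K α => IsPullback.of_forall_isPullback_app fun Z => ?_⟩
  · ext Z x
    refine unit_inj F hu K Z ?_
    have ea := ConcreteCategory.congr_hom (NatTrans.congr_app (F.op.lanUnit.naturality a) Z) x
    have eb := ConcreteCategory.congr_hom (NatTrans.congr_app (F.op.lanUnit.naturality b) Z) x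
    exact ea.trans ((congrArg (fun q : F.op.lan.obj H ⟶ F.op.lan.obj K =>
      q.app (F.op.obj Z) ((F.op.lanUnit.app H).app Z x)) hab).trans eb.symm)
  · haveI : ∀ Z, Mono ((F.op.lanUnit.app H).app Z) := fun Z => (mono_iff_injective _).2 (unit_inj F hu H Z)
    exact NatTrans.mono_of_mono_app _
  · have nat := fun x => (ConcreteCategory.congr_hom (NatTrans.congr_app (F.op.lanUnit.naturality α) Z) x).symm
    obtain ⟨Z⟩ := Z
    refine (Types.isPullback_iff _ _ _ _).2 ⟨by ext x; exact nat x, fun x y h => unit_inj F hu H _ h.1, fun t k hk => ?_⟩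
    obtain ⟨X, g, s, rfl⟩ := exists_rep F H Z t
    obtain ⟨φ, hφ⟩ := exists_phi F hu K Z
    have hk' : (F.op.lan.obj K).map g.op ((F.op.lanUnit.app K).app (op X) (α.app (op X) s)) =
        (F.op.lanUnit.app K).app (op Z) k := by
      refine Eq.trans ?_ hk
      refine Eq.trans (congrArg _ ?_) (NatTrans.naturality_apply (F.op.lan.map α) g.op _).symm
      exact ConcreteCategory.congr_hom (NatTrans.congr_app (F.op.lanUnit.naturality α) (op X)) s
    have h2 := hφ Z (F.map (𝟙 Z)) k
    rw [back_map] at h2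
    simp only [op_id, Functor.map_id, types_id_apply] at h2
    have h1 : φ ((F.op.lanUnit.app K).app (op Z) k) = some k := by simpa using h2
    rw [← hk', hφ] at h1
    by_cases hg : ∃ h : Z ⟶ X, F.map h = g
    · obtain ⟨h, rfl⟩ := hg
      rw [back_map] at h1
      exact ⟨H.map h.op s, NatTrans.naturality_apply (F.op.lanUnit.app H) h.op s,
        (NatTrans.naturality_apply α h.op s).trans (Option.some.inj h1)⟩
    · rw [back, dif_neg hg] at h1
      cases h1

end Groth.Agent.LanInd.OverFF
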